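import Cfsg.Agent.MQ.A.Glob.Main
import Cfsg.Agent.KZ.Ch3X.Ree_m3
import Cfsg.Agent.MQ.S.F42.Cov
import Cfsg.Agent.MQ.S.M35.Loc
import Cfsg.Agent.MK.S5.Mov_m3
import Cfsg.Agent.TAB.J2.Main
import Cfsg.Agent.J2Type.FiveFus
import Cfsg.Agent.J2Type.ThreeF
import Cfsg.Agent.KFacts.J2.Basic
import Cfsg.Agent.S2040
import Cfsg.Agent.S0157
import Cfsg.Agent.MQ.S.O82.Loc
import Cfsg.Agent.Lib.ListFast
import Cfsg.Agent.Prune
set_option linter.all false
prune_inst 0x7f00000000000000000000000000000000000000000000000000000000000000000000000000000000000000000000000000000000000000000000000000000000000000000000000000000000000000003fffffffffffffffffffffffffffbeffbdffffffff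
open scoped Cfsg.Agent.FastGrp

-- part: MO/S/Tits/Glob
section
/-!
# MO, the Tits group: the characters which are fixed by the outer automorphisms (helper2)

The characters of degrees `26`, `624`, `702`, `1300`, `2048` are moved, the others are fixed (the argument is the one of
`KZ.Spor.fx_TN`).
-/

set_option autoImplicit false
set_option maxRecDepth 100000

namespace Cfsg.Agent.MO.S.Tits

open Cfsg Cfsg.Agent.TAB.Eng Cfsg.Agent.TAB.Use Cfsg.Agent.Characters Cfsg.Agent.Characters.Core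
open Cfsg.Agent.TAB.Sm2 Cfsg.Agent.TAB.Sm2.Tits Cfsg.Agent.H447.CTab Cfsg.Agent.KZ.Spor Cfsg.Agent.MO.T
open scoped ComplexConjugate

theorem finite_TN : Finite TN := Nat.finite_of_card_ne_zero (by rw [card_TN]; norm_num)

/-- the moved rows -/
def mv : List ℕ := [8, 9, 14, 15, 16, 17, 18, 19, 20, 21]

private noncomputable def _root_.Cfsg.Agent.LsF.f1fcf00_0 : {f // @Cfsg.Agent.TAB.Use.Rows.n = f} := ⟨_, by first | (delta Cfsg.Agent.TAB.Use.Rows.n; rewrite [Cfsg.Agent.LsF.length_eq]; exact rfl) | exact rfl⟩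
private noncomputable def _root_.Cfsg.Agent.LsF.f1fcf00_1 : {f // @Cfsg.Agent.TAB.Sm2.rw' = f} := ⟨_, by first | (delta Cfsg.Agent.TAB.Sm2.rw'; rewrite [Cfsg.Agent.LsF.lappend_pat, Cfsg.Agent.LsF.getD_eq]; exact rfl) | exact rfl⟩
private noncomputable def _root_.Cfsg.Agent.LsF.f1fcf00_2 : {f // @Cfsg.Agent.TAB.Sm2.wt = f} := ⟨_, by first | (delta Cfsg.Agent.TAB.Sm2.wt; rewrite [Cfsg.Agent.LsF.f1fcf00_1.2, Cfsg.Agent.LsF.imul_pat, Cfsg.Agent.LsF.decLt_eq, Cfsg.Agent.LsF.length_eq, Cfsg.Agent.LsF.ite_eq]; exact rfl) | exact rfl⟩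
private noncomputable def _root_.Cfsg.Agent.LsF.f1fcf00_3 : {f // @Cfsg.Agent.TAB.Sm2.ro = f} := ⟨_, by first | (delta Cfsg.Agent.TAB.Sm2.ro; rewrite [Cfsg.Agent.LsF.nadd_pat, Cfsg.Agent.LsF.nsub_pat, Cfsg.Agent.LsF.ndiv_pat, Cfsg.Agent.LsF.decLt_eq, Cfsg.Agent.LsF.length_eq, Cfsg.Agent.LsF.ite_eq]; exact rfl) | exact rfl⟩
private noncomputable def _root_.Cfsg.Agent.LsF.f1fcf00_4 : {f // @Cfsg.Agent.TAB.Sm2.mkRows = f} := ⟨_, by first | (delta Cfsg.Agent.TAB.Sm2.mkRows; rewrite [Cfsg.Agent.LsF.f1fcf00_2.2, Cfsg.Agent.LsF.f1fcf00_3.2, Cfsg.Agent.LsF.f1fcf00_1.2, Cfsg.Agent.LsF.nadd_pat, Cfsg.Agent.LsF.nmul_pat, Cfsg.Agent.LsF.ndiv_pat, Cfsg.Agent.LsF.lappend_pat, Cfsg.Agent.LsF.map_eq, Cfsg.Agent.LsF.range_eq, Cfsg.Agent.LsF.toNat_eq, Cfsg.Agent.LsF.length_eq]; exact rfl) | exact rfl⟩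
private noncomputable def _root_.Cfsg.Agent.LsF.f1fcf00_5 : {f // @Cfsg.Agent.TAB.Use.Rows.d = f} := ⟨_, by first | (delta Cfsg.Agent.TAB.Use.Rows.d; rewrite [Cfsg.Agent.LsF.getD_eq]; exact rfl) | exact rfl⟩
set_option synthInstance.maxSize 4096 in
set_option synthInstance.maxHeartbeats 200000 in
theorem exists_enum : ∃ χ : ℕ → TN → ℂ, Enum TN (mkRows rA rB).n (mkRows rA rB).d χ ∧
    ∀ j < (mkRows rA rB).n, (Fx χ j ↔ j ∉ mv) := by
  have := finite_TN
  obtain ⟨T, hT⟩ := core_TN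
  obtain ⟨χ, hE, hR⟩ := hT.tab
  refine ⟨χ, hE, ?_⟩
  obtain ⟨-, ρ, -, hχ, hα⟩ := exists_rho
  have hd : trc ρ 1 = (27 : ℕ) := by simp [trc]
  generalize trc ρ = θ at hχ hα hd
  obtain ⟨ψ, h1, h2⟩ := hT.chi
  have h3 := pair_eq hE hR (j := 10) (k := 11) (w := rB.getD 1 []) (by decide +kernel) (by decide +kernel)
    (by decide +kernel) h1 h2 (by decide +kernel)
  obtain ⟨a, ha, rfl⟩ := hE.all θ hχ
  rw [hE.deg a ha, Nat.cast_inj] at hd
  have h4 : ∀ a < (mkRows rA rB).n, (mkRows rA rB).d a = 27 → a = 10 ∨ a = 11 := by decide +kernel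
  have h5 : PM T (χ a) ca cb := by rcases h4 a ha hd with rfl | rfl; exacts [h3.1, h3.2]
  obtain ⟨h6, h7⟩ := ext_of hT.mass hχ h5
  have h8 : ∀ (σ : MulAut TN) (g : TN), (-fun g => (χ a (g ^ 2) - χ a g ^ 2) / (2 : ℕ)) (σ g) =
      (-fun g => (χ a (g ^ 2) - χ a g ^ 2) / (2 : ℕ)) g := fun σ g => by
    simp only [Pi.neg_apply, ← map_pow, hα]
  generalize (-fun g => (χ a (g ^ 2) - χ a g ^ 2) / ((2 : ℕ) : ℂ)) = lam at h6 h7 h8
  have h9 : lam 1 = (351 : ℕ) := by
    have h9 : ∀ t < dat.n, 1 = dat.ord t → nth la t = 351 ∧ nth cb t = 0 := by decide +kernel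
    obtain ⟨h10, h11⟩ := h9 _ (T.lt 1) (orderOf_one.symm.trans (T.ord 1))
    have h12 := h7 1
    rw [h10, h11] at h12
    simpa using h12
  obtain ⟨b, hb, h10⟩ := hE.all _ h6
  obtain ⟨c, hc, h11⟩ := hE.all _ (isIrr_conj h6)
  have h12 : b ≠ c := by
    rintro rfl
    obtain ⟨g, hg⟩ := hT.inh 14 (by decide)
    exact h7.ne (g := g) (by rw [hg]; decide) (σ := Complex.conjAe.toRingEquiv) Complex.conj_I
      (congrFun (h11.trans h10.symm) g)
  have h13 : (mkRows rA rB).d b = 351 := by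
    rw [h10, hE.deg b hb] at h9
    exact_mod_cast h9
  have h14 : (mkRows rA rB).d c = 351 := by
    have h14 := congrFun h11 1
    rw [h9, Complex.conj_natCast, hE.deg c hc] at h14
    exact_mod_cast h14.symm
  have h15 : Fx χ b := fun σ g => by rw [← h10, h8]
  have h16 : Fx χ c := fun σ g => by
    rw [← h11]
    exact congrArg conj (h8 σ g)
  have h21 : ∀ b < (mkRows rA rB).n, (mkRows rA rB).d b = 351 → b = 4 ∨ b = 12 ∨ b = 13 := by decide +kernel
  have h17 : ∀ j < (mkRows rA rB).n, j ∉ mv → Fx χ j := fun j hj h18 => by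
    have h19 : ∀ j < (mkRows rA rB).n, j ∉ mv → (mkRows rA rB).d j = 27 ∨ (mkRows rA rB).d j = 351 ∨
        ∀ i < (mkRows rA rB).n, (mkRows rA rB).d i = (mkRows rA rB).d j → i = j := by decide +kernel
    rcases h19 j hj h18 with h20 | h20 | h20
    · by_cases h22 : j = a
      · exact h22 ▸ hα
      refine fx_of_others hE hj fun i hi h23 => ?_
      have h24 := h4 a ha hd
      have h25 := h4 j hj h20
      have h26 := h4 i hi (h23.trans h20)
      rcases (show i = j ∨ i = a by omega) with h27 | rfl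
      exacts [.inl h27, .inr hα]
    · by_cases h22 : j = b
      · exact h22 ▸ h15
      by_cases h22' : j = c
      · exact h22' ▸ h16
      refine fx_of_others hE hj fun i hi h23 => ?_
      have h24 := h21 b hb h13
      have h25 := h21 c hc h14
      have h26 := h21 j hj h20
      have h27 := h21 i hi (h23.trans h20)
      rcases (show i = j ∨ i = b ∨ i = c by (clear * - h12 h22 h22' h24 h25 h26 h27; solve | lia | omega)) with h28 | rfl | rfl
      exacts [.inl h28, .inr h15, .inr h16]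
    · exact fx_of_others hE hj fun i hi h23 => .inl (h20 i hi h23)
  refine fun j hj => ⟨fun h18 h19 => ?_, h17 j hj⟩
  have h20 : ∀ j ∈ mv, ∃ L ∈ ([[0, 1, 2, 3, 4, 5, 6, 7, 8, 9, 10, 11, 12, 13, 14, 14, 15, 15, 16, 16, 17, 17],
        [0, 1, 2, 3, 4, 5, 6, 7, 8, 8, 10, 11, 12, 13, 14, 9, 15, 15, 16, 16, 17, 17],
        [0, 1, 2, 3, 4, 5, 6, 7, 8, 8, 10, 11, 12, 13, 14, 14, 15, 9, 16, 16, 17, 17],
        [0, 1, 2, 3, 4, 5, 6, 7, 8, 8, 10, 11, 12, 13, 14, 14, 15, 15, 16, 9, 17, 17],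
        [0, 1, 2, 3, 4, 5, 6, 7, 8, 8, 10, 11, 12, 13, 14, 14, 15, 15, 16, 16, 17, 9]] : List (List (Fin 18))),
      (∀ x, ∃ i < (mkRows rA rB).n, L.getD i 0 = x) ∧
        ∀ i < (mkRows rA rB).n, ∀ k < (mkRows rA rB).n, (mkRows rA rB).d i = (mkRows rA rB).d k →
          L.getD i 0 = L.getD k 0 ∨ i ∈ [j, 4, 10, 11, 12, 13] ∨ k ∈ [j, 4, 10, 11, 12, 13] := by (refine of_decide_eq_true ?_; (try (rewrite [Cfsg.Agent.LsF.dMemE_pat, Cfsg.Agent.LsF.f1fcf00_0.2, Cfsg.Agent.LsF.f1fcf00_4.2, Cfsg.Agent.LsF.f1fcf00_5.2, Cfsg.Agent.LsF.instDecEq_eq, Cfsg.Agent.LsF.getD_eq, Cfsg.Agent.LsF.dAnd_eq, Cfsg.Agent.LsF.dOr_eq, Cfsg.Agent.LsF.dFinEq_eq, Cfsg.Agent.LsF.dBAll_eq, Cfsg.Agent.LsF.dBEx_eq, Cfsg.Agent.LsF.dBallLT_eq, Cfsg.Agent.LsF.dForallFin_eq, Cfsg.Agent.LsF.dExistsLT_eq, Cfsg.Agent.LsF.dAllP_eq, Cfsg.Agent.LsF.decide_eq])); decide +kernel)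
  obtain ⟨L, -, h22, h23⟩ := h20 j h19
  have h24 := colours_enum hE repT repT_cover (fun i => L.getD i 0) h22 [j, 4, 10, 11, 12, 13]
    (List.forall_mem_cons.2 ⟨h18, fun i hi => h17 i
      ((by decide +kernel : ∀ i ∈ [4, 10, 11, 12, 13], i < (mkRows rA rB).n) i hi)
      ((by decide : ∀ i ∈ [4, 10, 11, 12, 13], i ∉ mv) i hi)⟩) h23
  simp at h24

theorem k0_three : k0 3 TN = 9 := by
  obtain ⟨χ, hE, -⟩ := exists_enum
  rw [k0_enum hE]
  decide +kernel

theorem k0_five : k0 5 TN = 16 := by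
  obtain ⟨χ, hE, -⟩ := exists_enum
  rw [k0_enum hE]
  decide +kernel

theorem f0_eq {p : ℕ} {β : MulAut TN} (o : ∀ γ : MulAut TN, ∃ s, γ = MulAut.conj s ∨ γ = MulAut.conj s * β) :
    f0 p β = (List.range (mkRows rA rB).n).countP fun j => (mkRows rA rB).d j % p != 0 && decide (j ∉ mv) := by
  obtain ⟨χ, hE, h⟩ := exists_enum
  refine f0_enum hE fun j hj _ => ?_
  rw [decide_eq_true_iff, ← h j hj]
  refine ⟨fun h1 γ x => ?_, fun h1 => h1 β⟩
  have h2 := isIrr_isClassFunction (hE.irr j hj)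
  obtain ⟨s, rfl | rfl⟩ := o γ
  · exact h2 x s
  · rw [MulAut.mul_apply, MulAut.conj_apply, h2, h1]

theorem f0_three {β : MulAut TN} (o : ∀ γ : MulAut TN, ∃ s, γ = MulAut.conj s ∨ γ = MulAut.conj s * β) :
    f0 3 β = 3 := by
  rw [f0_eq o]
  decide +kernel

theorem f0_five {β : MulAut TN} (o : ∀ γ : MulAut TN, ∃ s, γ = MulAut.conj s ∨ γ = MulAut.conj s * β) :
    f0 5 β = 8 := by
  rw [f0_eq o]
  decide +kernel

end Cfsg.Agent.MO.S.Tits
end

-- part: MO/S/Tits/Main
section
/-!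
# MO, the small rows of the Tits group, `p = 3` and `p = 5` (helper2)

For `p = 3` the normaliser is `3^{1+2} : D₈`, in `²F₄(2)` it is `3^{1+2} : SD₁₆`.  The Sylow `5`-subgroup is a trivial
intersection subgroup.
-/

set_option autoImplicit false
set_option maxRecDepth 100000

namespace Cfsg.Agent.MO.S

namespace Tits

open Cfsg Subgroup Cfsg.Agent.TAB.Eng Cfsg.Agent.TAB.Sm2.Tits Cfsg.Agent.MO.T Cfsg.Agent.MO.S.M7 Cfsg.Agent.MO.S.Two
open Cfsg.Agent.SporadicB.RuOrder Cfsg.Agent.SporadicB.RuTits Cfsg.Agent.H792.SpCube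

theorem idx_le {S : Type} [Group S] (h : Lie.IsoTits S) : (MulAut.conj : S →* MulAut S).range.index ≤ 2 :=
  H55.OutGen.card_out_eq_index (G := S) ▸ H867.TitsOut.card_out_le h

theorem idx_cases {S : Type} [Group S] (h : Lie.IsoTits S) :
    (MulAut.conj : S →* MulAut S).range.index = 1 ∨ (MulAut.conj : S →* MulAut S).range.index = 2 := by
  have := finite_of h
  have h1 := idx_le h
  have h2 : (MulAut.conj : S →* MulAut S).range.index ≠ 0 := index_ne_zero_of_finite
  omega

theorem cp_TN : KZ.Spor.CP TN := by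
  have := finite_TN
  obtain ⟨T, hT⟩ := core_TN
  refine KZ.Spor.cp_of_prime fun y hy h3 => ?_
  have h1 := (centralizer ({y} : Set TN)).card_mul_index
  have h2 : ∀ t < dat.n, dat.ord t = 3 ∨ t ∈ [1, 2, 7] ∨ dat.ord t = 13 ∨ ¬ (dat.ord t).Prime := by decide +kernel
  have h4 : ¬ 27 ∣ Nat.card (centralizer ({y} : Set TN)) := fun h4 => by
    rcases h2 _ (T.lt y) with h5 | h5 | h5 | h5
    · exact h3 ((T.ord y).trans h5)
    · exact (hT.one _ ((by decide : ∀ t ∈ [1, 2, 7], t ∈ [1, 2, 3, 7]) _ h5)).not_dvd hT.mass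
        ((by decide +kernel : ∀ t ∈ [1, 2, 7], ¬ dat.cnt t * 27 ∣ dat.N) _ h5) rfl h4
    · obtain ⟨x, hx⟩ := exists_prime_orderOf_dvd_card' 3 (Dvd.dvd.trans (by norm_num) h4)
      have h6 := Commute.orderOf_mul_eq_mul_orderOf_of_coprime (mem_centralizer_singleton_iff.1 x.2)
        (by rw [orderOf_coe, hx, T.ord, h5]; norm_num)
      rw [orderOf_coe, hx, T.ord y, h5, T.ord] at h6
      exact (by decide +kernel : ∀ t < dat.n, dat.ord t ≠ 3 * 13) _ (T.lt _) h6
    · exact h5 (T.ord y ▸ hy)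
  by_contra h5
  exact h4 (Nat.Coprime.dvd_of_dvd_mul_right (((Nat.Prime.coprime_iff_not_dvd Nat.prime_three).2 h5).pow_left 3)
    (by rw [h1, card_TN]; norm_num))

/-- the words of `x`, `y`, `z`, of two generators of `D₈` and of an outer element -/
def lw (i : ℕ) : List ℕ :=
  [[0, 3, 1, 3, 1, 2, 0, 0, 2, 1, 3, 0, 3, 0], [3, 1, 2, 1, 3, 3, 1, 1, 1, 1, 3, 0, 3, 0], [0, 0, 2, 1, 2],
    [1, 1, 3, 0, 2, 1, 3, 0, 2, 0], [1, 2, 1, 2, 0, 0, 2, 2, 0, 2, 0, 2], [4, 0, 0, 2, 2, 2, 2, 2, 2, 1]].getD i []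

/-- the elements -/
noncomputable def E (i : ℕ) : H1 := wv (lw i)

/-- the elements of the Tits group -/
noncomputable def e (i : ℕ) : TN := wg (lw i)

theorem he (i : ℕ) (hi : i < 5) : (e i : H1) = E i := congrArg wv ((by decide : ∀ i < 5, md (lw i) = lw i) i hi)

theorem wv_flat : ∀ l : List ℕ, wv (l.flatMap lw) = (l.map E).prod
  | [] => rfl
  | a :: l => by rw [List.flatMap_cons, wv_append, wv_flat l]; rfl

theorem rl (l l' : List ℕ) (h : eqW (l.flatMap lw) (l'.flatMap lw) = true) : (l.map E).prod = (l'.map E).prod := by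
  rw [← wv_flat, ← wv_flat, wv_eq h]

theorem heis : Heis 3 (e 0) (e 1) (e 2) where
  x_pow := Subtype.ext (by simpa only [he, pow_succ', _root_.pow_zero, _root_.mul_one, _root_.Subgroup.coe_mul, _root_.Nat.ofNat_pos, _root_.OneMemClass.coe_one, _root_.List.map_cons, _root_.List.map_nil, _root_.List.prod_cons, _root_.List.prod_nil] using rl [0, 0, 0] [] (by decide +kernel))
  y_pow := Subtype.ext (by simpa only [he, pow_succ', _root_.pow_zero, _root_.mul_one, _root_.Subgroup.coe_mul, _root_.Nat.one_lt_ofNat, _root_.OneMemClass.coe_one, _root_.List.map_cons, _root_.List.map_nil, _root_.List.prod_cons, _root_.List.prod_nil] using rl [1, 1, 1] [] (by decide +kernel))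
  z_pow := Subtype.ext (by simpa only [he, pow_succ', _root_.pow_zero, _root_.mul_one, _root_.Subgroup.coe_mul, _root_.Nat.reduceLT, _root_.OneMemClass.coe_one, _root_.List.map_cons, _root_.List.map_nil, _root_.List.prod_cons, _root_.List.prod_nil] using rl [2, 2, 2] [] (by decide +kernel))
  xz := Subtype.ext (by simpa only [he, _root_.Subgroup.coe_mul, _root_.Nat.ofNat_pos, _root_.Nat.reduceLT, _root_.List.map_cons, _root_.List.map_nil, _root_.List.prod_cons, _root_.List.prod_nil, _root_.mul_one] using rl [0, 2] [2, 0] (by decide +kernel))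
  yz := Subtype.ext (by simpa only [he, _root_.Subgroup.coe_mul, _root_.Nat.one_lt_ofNat, _root_.Nat.reduceLT, _root_.List.map_cons, _root_.List.map_nil, _root_.List.prod_cons, _root_.List.prod_nil, _root_.mul_one] using rl [1, 2] [2, 1] (by decide +kernel))
  yx := Subtype.ext (by simpa only [he, mul_assoc, _root_.Subgroup.coe_mul, _root_.Nat.one_lt_ofNat, _root_.Nat.ofNat_pos, _root_.Nat.reduceLT, _root_.List.map_cons, _root_.List.map_nil, _root_.List.prod_cons, _root_.List.prod_nil, _root_.mul_one] using rl [1, 0] [0, 1, 2] (by decide +kernel))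
  z_ne h := by
    have h1 := evW_eq (lw 2) ⟨29, by norm_num⟩
    rw [show wv (lw 2) = 1 from (he 2 (by norm_num)).symm.trans (congrArg Subtype.val h)] at h1
    exact (by decide +kernel : 29 ≠ evW (lw 2) 29) h1

/-- the words of `D₈` -/
def W : List (List Bool) := [[], [false], [false, false], [false, false, false], [true], [true, false],
  [true, false, false], [true, false, false, false]]

theorem three : SmC 3 1 TN := by
  have := finite_TN
  have := normal_TN
  have hI : Lie.IsoTits TN := (exists_iso isoTits).elim fun f => ⟨f.symm⟩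
  obtain ⟨S, h1, h2, C, hx, hy⟩ := heis_ch (by rw [card_TN]; norm_num) heis
  obtain ⟨g1, g2⟩ := heis_conj h1 h2 hx hy (g := e 3) (i := 2) (j := 0) (m := 0) (k := 0) (l := 1) (n := 0)
    (Subtype.ext (by simpa only [he, pow_succ', mul_assoc, _root_.Subgroup.coe_mul, _root_.Nat.reduceLT, _root_.Nat.ofNat_pos, _root_.pow_zero, _root_.mul_one, _root_.List.map_cons, _root_.List.map_nil, _root_.List.prod_cons, _root_.List.prod_nil] using rl [3, 0] [0, 0, 3] (by decide +kernel)))
    (Subtype.ext (by simpa only [he, _root_.Subgroup.coe_mul, _root_.Nat.reduceLT, _root_.Nat.one_lt_ofNat, _root_.pow_zero, _root_.pow_one, _root_.one_mul, _root_.mul_one, _root_.List.map_cons, _root_.List.map_nil, _root_.List.prod_cons, _root_.List.prod_nil] using rl [3, 1] [1, 3] (by decide +kernel)))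
  obtain ⟨g3, g4⟩ := heis_conj h1 h2 hx hy (g := e 4) (i := 0) (j := 2) (m := 0) (k := 1) (l := 0) (n := 0)
    (Subtype.ext (by simpa only [he, pow_succ', mul_assoc, _root_.Subgroup.coe_mul, _root_.Nat.lt_add_one, _root_.Nat.ofNat_pos, _root_.pow_zero, _root_.mul_one, _root_.one_mul, _root_.Nat.one_lt_ofNat, _root_.List.map_cons, _root_.List.map_nil, _root_.List.prod_cons, _root_.List.prod_nil] using rl [4, 0] [1, 1, 4] (by decide +kernel)))
    (Subtype.ext (by simpa only [he, _root_.Subgroup.coe_mul, _root_.Nat.lt_add_one, _root_.Nat.one_lt_ofNat, _root_.pow_one, _root_.pow_zero, _root_.mul_one, _root_.Nat.ofNat_pos, _root_.List.map_cons, _root_.List.map_nil, _root_.List.prod_cons, _root_.List.prod_nil] using rl [4, 1] [0, 4] (by decide +kernel)))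
  obtain ⟨g5, g6⟩ := heis_aut h1 h2 hx hy (β := MulAut.conjNormal (E 5)) (i := 1) (j := 1) (m := 1) (k := 1) (l := 2) (n := 2)
    (Subtype.ext (mul_inv_eq_of_eq_mul (by simpa only [he, mul_assoc, _root_.MulEquiv.toMonoidHom_eq_coe, _root_.MonoidHom.coe_coe, _root_.ConjAct.ofConjAct_toConjAct, _root_.Nat.ofNat_pos, _root_.pow_one, _root_.Subgroup.coe_mul, _root_.Nat.one_lt_ofNat, _root_.Nat.reduceLT, _root_.List.map_cons, _root_.List.map_nil, _root_.List.prod_cons, _root_.List.prod_nil, _root_.mul_one] using rl [5, 0] [0, 1, 2, 5] (by decide +kernel))))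
    (Subtype.ext (mul_inv_eq_of_eq_mul (by
      simpa only [he, pow_succ', mul_assoc, _root_.MulEquiv.toMonoidHom_eq_coe, _root_.MonoidHom.coe_coe, _root_.ConjAct.ofConjAct_toConjAct, _root_.Nat.one_lt_ofNat, _root_.pow_zero, _root_.mul_one, _root_.Subgroup.coe_mul, _root_.Nat.ofNat_pos, _root_.Nat.reduceLT, _root_.List.map_cons, _root_.List.map_nil, _root_.List.prod_cons, _root_.List.prod_nil] using rl [5, 1] [0, 1, 1, 2, 2, 5] (by decide +kernel))))
  generalize (MulAut.conjNormal (E 5) : MulAut TN) = β at g5 g6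
  have hf := fa_of_cp cp_TN C
  have h3 := Two.idx_le hf (k := 3) (m := 665600) card_TN (by norm_num)
  have h4 : toQ (C.ρ ⟨_, g1⟩) = (2, 0, 0, 1) := by rw [g2]; decide
  have h5 : toQ (C.ρ ⟨_, g3⟩) = (0, 1, 2, 0) := by rw [g4]; decide
  have h6 := loc_fa hf h4 h5 W (by decide) h3 (β := 1) (fun _ => Iff.rfl) (B := 1) fun u _ => (Matrix.one_mulVec _).symm
  have h7 : fN 3 (NN (S : Subgroup TN)) 1 = 9 := Nat.eq_of_mul_eq_mul_right (by decide) (h6.trans (by decide +kernel))
  have h8 : fN 3 (NN (S : Subgroup TN)) β = 3 :=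
    Nat.eq_of_mul_eq_mul_right (by decide) ((loc_fa hf h4 h5 W (by decide) h3 g5 g6).trans (by decide +kernel))
  have h9 : β ∉ (MulAut.conj : TN →* MulAut TN).range := by
    rintro ⟨s, rfl⟩
    rw [← mul_one (MulAut.conj s), fN_conj_mul (mem_normalizer_iff.2 fun u => (g5 u).symm), h7] at h8
    omega
  have o := MK.T.out_cases ((idx_cases hI).resolve_left fun h => h9 (index_eq_one.1 h ▸ mem_top β)) h9
  exact smC_one_two o fun _ => ⟨S, g5, (fN_one _).symm.trans (h7.trans k0_three.symm), h8.trans (f0_three o).symm⟩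

theorem ti_five {S : Type} [Group S] (h : Lie.IsoTits S) [Fact (Nat.Prime 5)] (Q : Sylow 5 S) : TI (Q : Subgroup S) := by
  have := finite_of h
  obtain ⟨T, hT⟩ := core_of h
  have h1 := card_syl Q (k := 2) (m := 718848) hT.mass.1 (by norm_num)
  have h2 : ∀ a ∈ (Q : Subgroup S), ∀ b ∈ (Q : Subgroup S), a * b = b * a := fun a ha b hb =>
    congrArg Subtype.val ((IsPGroup.isMulCommutative_of_card_eq_prime_sq h1).1.1 ⟨a, ha⟩ ⟨b, hb⟩)
  have h3 : ∀ a ∈ (Q : Subgroup S), a ^ 25 = 1 := fun a ha => congrArg Subtype.val (h1 ▸ pow_card_eq_one' (x := (⟨a, ha⟩ : Q)))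
  refine TI.ti_iff.2 fun g x hx h4 h5 => mem_normalizer_fintype fun u hu => ?_
  have h6 : T.ty (g * x * g⁻¹) = 7 := (by decide +kernel : ∀ t < dat.n, dat.ord t ∣ 25 → dat.ord t ≠ 1 → t = 7) _ (T.lt _)
    (T.ord _ ▸ orderOf_dvd_of_pow_eq_one (h3 _ h5)) (T.ord _ ▸ fun e => h4 (by simpa only [_root_.orderOf_eq_one_iff, _root_.conj_eq_one_iff] using e))
  have h7 := (hT.one 7 (by decide)).card hT.mass h6
  have h8 : (Q : Subgroup S) ≤ centralizer {g * x * g⁻¹} := fun a ha => mem_centralizer_singleton_iff.2 (h2 _ ha _ h5)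
  have h9 := ((Q : Subgroup S).subgroupOf (centralizer {g * x * g⁻¹})).card_mul_index
  rw [Nat.card_congr (subgroupOfEquivOfLe h8).toEquiv, h1] at h9
  have h10 : (g * u * g⁻¹) ^ 2 ∈ (Q : Subgroup S) := sq_mem_of_index_two
    (H := (Q : Subgroup S).subgroupOf (centralizer {g * x * g⁻¹})) (by
      change 359424 * _ = 17971200 at h7
      omega) ⟨g * u * g⁻¹, mem_centralizer_singleton_iff.2 (by rw [conj_mul, conj_mul, h2 u hu x hx])⟩
  have h11 := pow_mem h10 13
  rwa [← pow_mul, conj_pow, pow_succ, h3 u hu, one_mul] at h11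

end Tits

theorem tits_1_3 : SmC 3 1 Lie.TitsGroup :=
  (TAB.Sm2.Tits.exists_iso TAB.Sm2.Tits.isoTits).elim fun e => Tits.three.congr e

theorem tits_1_5 [Fact (Nat.Prime 5)] (ae : AE 5) : SmC 5 1 Lie.TitsGroup :=
  have := TAB.Sm2.Tits.finite_of TAB.Sm2.Tits.isoTits
  TI.smC_of_ti ae (by decide) (by decide) (((Tits.idx_cases TAB.Sm2.Tits.isoTits).elim
    (fun h => T.out2_of_inn (T.inn_of_index h)) T.out2_of_index).outC 1) default (Tits.ti_five TAB.Sm2.Tits.isoTits _)

end Cfsg.Agent.MO.S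
end

-- part: MO/S/J2/Glob
section
/-!
# MO, the Hall–Janko group : the global numbers (helper88)

* `k0_G`, `f0_G` : the characters of `p'`-degree and those fixed by the outer automorphism `β`;
* `out_G`, `card_N3`, `card_N5`.
-/

set_option autoImplicit false

namespace Cfsg.Agent.MO.S.J2

open Subgroup Cfsg.Agent.MO.T Cfsg.Agent.TAB.Use Cfsg.Agent.TAB.J2 Cfsg.Agent.MK.S5
open Cfsg.Agent.SporadicA.J2Hundred (G pT pT_mem)
open Cfsg.Agent.H89.S8.J2 (T)
open Cfsg.Agent.H269.CubeJ2 (cj)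

/-- the outer automorphism -/
def β : MulAut G := cj pT pT_mem

theorem k0_G (p : ℕ) : k0 p G = degL.countP fun a => a % p != 0 := k0_of_degList fin.2.2.2

theorem f0_G (p : ℕ) : f0 p β = (List.range 21).countP fun j => degL.getD j 0 % p != 0 && decide (j < 11) := by
  obtain ⟨χ, hE⟩ := fin.2.2.2
  have h1 : ∀ j < degL.length, j ∉ [11, 12, 13, 14, 15, 16, 17, 18, 19, 20] →
      ∀ i < degL.length, degL.getD i 0 = degL.getD j 0 → i = j := by decide +kernel
  have h2 : ∀ j < degL.length, j ∉ [11, 12, 13, 14, 15, 16, 17, 18, 19, 20] → ∀ x, χ j (β x) = χ j x :=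
    fun j hj h => MK.T.enum_fix hE _ hj (h1 j hj h)
  have h3 : ∀ {i j : Fin 21}, (i, j) ∈ [((3 : Fin 21), (7 : Fin 21)), (8, 12), (13, 16), (15, 17), (19, 20)] → i ≠ j →
      ¬ IsConj (β (T.x i)) (T.x i) ∧ ¬ IsConj (β (T.x j)) (T.x j) :=
    fun h hn => not_conj_of_pair (out h) fun e => hn (T.inj _ _ e)
  have h4 := fun i => moved_of_count hE β _ h2
    (L := ([3, 7, 8, 12, 13, 16, 15, 17, 19, 20] : List (Fin 21)).map T.x) (i := i)
    (List.pairwise_map.2 ((by decide : ([3, 7, 8, 12, 13, 16, 15, 17, 19, 20] : List (Fin 21)).Nodup).imp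
      fun h e => h (T.inj _ _ e)))
    (List.forall_mem_map.2 fun i hi => by
      have h5 : ∀ i ∈ ([3, 7, 8, 12, 13, 16, 15, 17, 19, 20] : List (Fin 21)), ∃ j : Fin 21, i ≠ j ∧
          ((i, j) ∈ [((3 : Fin 21), (7 : Fin 21)), (8, 12), (13, 16), (15, 17), (19, 20)] ∨
          (j, i) ∈ [((3 : Fin 21), (7 : Fin 21)), (8, 12), (13, 16), (15, 17), (19, 20)]) := by decide +kernel
      obtain ⟨j, h6, h7 | h7⟩ := h5 i hi
      exacts [(h3 h7 h6).1, (h3 h7 h6.symm).2]) le_rfl
  have h5 : ∀ j < degL.length, j < 11 ↔ j ∉ [11, 12, 13, 14, 15, 16, 17, 18, 19, 20] := by decide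
  exact f0_enum hE (q := fun j => decide (j < 11)) fun j hj _ =>
    ⟨fun h => decide_eq_true ((h5 j hj).2 fun e => h4 j e h), fun h => h2 j hj ((h5 j hj).1 (of_decide_eq_true h))⟩

theorem out_G (γ : MulAut G) : ∃ s, γ = MulAut.conj s ∨ γ = MulAut.conj s * β := by
  obtain ⟨e⟩ := H379.J2Spec.iso
  have h1 : (MulAut.congr e).symm β ∉ (MulAut.conj : Spor.J2 →* MulAut Spor.J2).range := fun ⟨x, hx⟩ =>
    H269.CubeJ2.cj_not_inner (e x) (by rw [← congr_conj, hx, MulEquiv.apply_symm_apply, β])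
  obtain ⟨s, h2 | h2⟩ := MK.T.out_cases S2066.result h1 ((MulAut.congr e).symm γ)
  · exact ⟨e s, Or.inl (by rw [← congr_conj, ← h2, MulEquiv.apply_symm_apply])⟩
  · exact ⟨e s, Or.inr (by
      rw [← congr_conj, ← (MulAut.congr e).apply_symm_apply β, ← map_mul, ← h2, MulEquiv.apply_symm_apply])⟩

theorem card_norm {p n : ℕ} [Fact p.Prime]
    (h : ∀ P : Sylow p Spor.J2, Nat.card (normalizer ((P : Subgroup Spor.J2) : Set Spor.J2)) = n) (Q : Sylow p G) :
    Nat.card (normalizer ((Q : Subgroup G) : Set G)) = n := by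
  obtain ⟨e⟩ := H379.J2Spec.iso
  obtain ⟨P, -, h2⟩ := exists_sylow_congr e Q
  rw [← h P, Nat.card_congr (se e _ _ h2).toEquiv]

theorem card_N3 (Q : Sylow 3 G) : Nat.card (normalizer ((Q : Subgroup G) : Set G)) = 216 := by
  have := Fact.mk Nat.prime_three
  have := TAB.J2.finite
  obtain ⟨t, u, Q₀, v, ρ, D⟩ := KFacts.J2.Basic.exists_dat
  exact card_norm (fun P => (J2Type.ThreeF.sylow_three D.F P).2.2.1) Q

theorem card_N5 (Q : Sylow 5 G) : Nat.card (normalizer ((Q : Subgroup G) : Set G)) = 300 := by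
  have := Fact.mk Nat.prime_five
  have := TAB.J2.finite
  obtain ⟨t, u, Q₀, v, ρ, D⟩ := KFacts.J2.Basic.exists_dat
  exact card_norm (fun P => (J2Type.FiveFus.sylow_five D.F P).2.2.1) Q

end Cfsg.Agent.MO.S.J2
end

-- part: MO/S/J2/Model
section
/-!
# MO, the double cover of the Hall–Janko group as a group of signed permutations (helper88)

* `X` : the signed permutations which fix the skew signed adjacency matrix `a` of the graph on 100 points;
* `φ : X →* G`, `cv : Cv 2 φ`, `z`, `α` (over `β`), `tr` (the trace);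
* `Rep x f` : `f` is the action of `x` on the 200 signed points; `lw` : words.
-/

set_option autoImplicit false
set_option maxRecDepth 100000

namespace Cfsg.Agent.MO.S.J2

open Subgroup Equiv Cfsg.Agent.SporadicA.PermTab Cfsg.Agent.Characters
open Cfsg.Agent.SporadicA.J2Data (adj tT)
open Cfsg.Agent.SporadicA.J2Hundred (G pT pT_mem card_G)
open Cfsg.Agent.J2.HundredGens (gen gen_mem pw gw pw_cons)
open Cfsg.Agent.H269.CubeJ2 (gp gp_inv)

/-- a lift of a -/
def uA : ℕ := 0xc6184310b7040238600c10b61682c8880a81542b0571881482888c15c138268470902cc5404b0982a4550ad08410c1b84007e2845103c0760d84e09d0820e81a0350300c81882105c0bc1682c1143080b8b403623c0a0bc10c21c1805f03c07c0e01d04e1f43f0330520540b0250d8048088730e8028380710da0383787700c01c028040cc19c3206518e314630531080a82e05d17e2f85e8241702e45d0bb0c02d85a8280942c8588ab15813c220af1601142304914c29c4d8a41460f41f0a013e2681c03914a2784c0990f82584a88512424c4889004c1783d8500fe0ac3c05804408c4a0c310420c400811160640d09711a1e43d0890101d83a80f0201b80600d0121c8058130d41ac3486800400c00001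

/-- a lift of b -/
def uB : ℕ := 0xae290528c41863084c83c15209c5e0bd0c61f05c88905e25c5a0b51001282604d15e138140850560a85f8a8142298628c607c0fc5385c0740ec1b09c1360e46089816c0b84a0950a60c80f01508e118468490b42285c0230482185601f0400b4408b303406c3e8ba0f41ec160780181c40700a0e60443b01300a0403506c0d61b4058640ce00401068176100208600be1781a8a008a22c2c05918e0602a8251260cc280510382b8580b10962c84602111e2382d84407a1083086214428c218c013c27c4d03806e2742e8340a42481803116e258410791562a8148ad17c0982a087110088240831082440e84f0fc1fc0c85602c05c480140e00343906e01e1d4090770d21d00300800e0243780000619433004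

/-- a lift of c -/
def uC : ℕ := 0xc6184310bb0601e4600c10b61682c878188118548530a81482887d092138268af160110278ab1581585c84a0861085103f0802941b89f1400d41c83807a0d01d03611a0c81885f0462181682c1060584b87e1020781202505e2481002111e0984587f1002305a07b0f80a8610bc0e40440901001e1dc380710da0203780a002190340690060080386a18e314630571280542e05d17e2f85e8140c02a8228b71702d85a81915a2c85884b0982a0598470902e82a8ae14e2981f0a31481044d83b0782644e89c1422604f09a0522584a8c310e0884889003e1e81981a03a208440891260b8420850562281381b0380a0280170302382f05801c1d43b0740e604c0600d0121b00586e0ca000020050ce19835806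

/-- a lift of d -/
def uD : ℕ := 0x222d0140c30c0020440bc0240ec5005c01c29c5300a04028c2006208e2c42704a0522c0208171660300689b0ac154568b50a425c0c05917c22c3f07d0881fc1188607c0b44801503e0784b03103804c578c50742043a05d1320d00b0b71262481308f06c0e41c0a11582144a00f11c2fc638250f02ec548aa0002e0008c2006198340050d60183686f0ea1404605f1881b0120580ec27c1e0c00e410c2106e1080fc520c6156134590ae11a1305287b09e1c0388371742e42485116c0cc3e0bd0b409c0d01915006c4382214424416079106208190951001dc2586113c074080c106a2603d05305e0b84502b1342744e03d0900841807305416c3188902815c228460c81503285e0ce0080206900e1a80480b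

/-- a lift of e -/
def uE : ℕ := 0xb63002e8b90321e06286218e0b4480151522dc300460ac25818830156134590ae088130240ad09e2e02b8af13a0e01a83c13e2781b0a407e0f8218a60682845289b05c1485a8b40f825c5f0591000941108503c0744707a02e2341407e0fe22c4502b03e0806182f10e0905e05e00c014340660ce0003786d01a1940606b0101dc3b01101e0400507217e170608550fa050308c60c62441607908a14c620aa1740c84a89408e2c42704a1502c0560491661505d84b0722704c8a00760e84d040146288538421300f4208371242d8288500300cc2d0bd03822443021104204150160f60a44601a03609c1308f1062102f8930462202c0c20d41a402002006190058090e2004380070d804c090750e61d03700e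

/-- a lift of t -/
def uT : ℕ := 0x18e2784d0771083080f88217e1682c87d170004320bb0d81a40200701828c5204c0380340101d08e2240a00311a1ec1b8b11640b8498a00763181302b082314398100da2544b0151420f8088120702385386a0360e45507e0460880b0c30ba3002404b04e2205e00b14c084180451880b0168341321c82504f0301b84b8b70a02305b0510881242b0b90c60e81b0130401784181e0b62f85e8190a8194000570100143406b0e00fc200b01001c4330811560943c06705205c4d84d09c2481783c13e1884508f14a184078740120c41907907a2883a8761380a8218060fe2742301a10e2183d05f182170560af1160902c06f0842144a0a90c02404889806a038570b30f8028198531680a0290b51502b45d055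

/-- the signs of the edges -/
def sgn : ℕ := 0x200090c047c00003101082083100540004112201104000018800040b00060240620a83a0000404224450c80245020012511000c0c4084080040280889045a00b981928200000920010992088aa080000011200348304230401050000828000448071010140604104104c808000020188209e000c02000a0000804d206c8008200047100030000a0180e080556340125000100c8c0b0000100030a0942000040ac6120080c00502440809809024844c010400924040220460842400100004014880805203a040a00000000b0a00008295c002802802982002298020003000a210e120049001000140400604518001083803040408964080190b20880080024028125810080a508604002189011033001047040569a0001900021000201100191002020470298080408c8680220c000020820121021004804002210003440100888123000a41800000000a2021a1020d00640030040008981d0c14890401800020028101047128d044048400015206921481022800030700001001001482101402c480b0a300008080208204001520990001a2120072082088c280001000832800005044c040c1800c0a80801101000000c2445004400600800000360710008a00301060002201c46082002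7400010904400900e0051c00000000102881028001004aa2400204120000d4021000020a4081a00c00816220012000d40132024401040081840000c00228023600110904c206000068000901c0010843804140003027060018082008008820110001511024298000000858020050104455206080005100220004009112850220080a0021000840e402804212821500840881c000a0a42c8c6100600602c00003140c2002808e2e0064100208003001168001001540033502001004030a4142c0420080612828108c4001a5420221620001020814120206080862404c0902008408002001818053082308200300411080801080025a002400090c9201011924826004040410004802006860000000002309c82010425110110000810101058004a2207d00c400a0014180400003086102c200a308020400402c84022400401300008000c106490484210008060280006024101030742002084015812420200024060582008240280000060c21099000a480011290002480404810040040300a24004901300200112d10004142c001081100014800c8084030408040024002280100a00114048024120000065100050082a0241200c0400d090a0034900064004102000a20a0080c02200a81400000050d84000040181444805000a11522404040800468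4000000585440a0801080210421200221809049000210a1d010110080000040a50128138001020080a0a00a460390200c8242000004082042401440ac00202204405400000448080002411804f010f4000030808618900c0043268009000010021d0088400204032140000194000280820d0130008100082400800008c00140144020000140000a020400008002000000148a3404422064a0c28040004243044408044100060908071002201000548100880282400208c341001022005180109083000540480c85110006890110002841028200500132000061421002004026090222242a0005000008a060d0298800801000a0000804081280dc400408c0024400000204108238048030231800000a021008472410404401c0002801028048842600019a204000000000000000000000000000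

/-- the tables of the lifts -/
def ut : ℕ → ℕ
  | 0 => uA
  | 1 => uB
  | 2 => uC
  | 3 => uD
  | 4 => uE
  | _ => uT

/-- signed permutations -/
structure M where
  g : Perm (Fin 100)
  s : Fin 100 → Bool

theorem M.eq {x y : M} (h : x.g = y.g) (h' : ∀ i, x.s i = y.s i) : x = y := by
  cases x
  cases y
  exact congrArg₂ M.mk h (funext h')

instance M.grp : Group M where
  mul x y := ⟨x.g * y.g, fun i => xor (x.s (y.g i)) (y.s i)⟩
  one := ⟨1, fun _ => false⟩
  inv x := ⟨x.g⁻¹, fun i => x.s (x.g⁻¹ i)⟩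
  mul_assoc x y w := M.eq (mul_assoc _ _ _) fun _ => (Bool.xor_assoc _ _ _)
  one_mul x := M.eq (one_mul _) fun _ => Bool.false_xor _
  mul_one x := M.eq (mul_one _) fun _ => Bool.xor_false _
  inv_mul_cancel x := M.eq (inv_mul_cancel _) fun i => by
    change xor (x.s (x.g⁻¹ (x.g i))) (x.s i) = false
    rw [show x.g⁻¹ (x.g i) = i from x.g.symm_apply_apply i, Bool.xor_self]

instance M.fin : Finite M :=
  Finite.of_injective (fun x : M => (x.g, x.s)) fun _ _ h => M.eq (congrArg Prod.fst h) (congrFun (congrArg Prod.snd h))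

instance M.act : MulAction M (Fin 100 × Bool) where
  smul x p := (x.g p.1, xor (x.s p.1) p.2)
  one_smul _ := Prod.ext rfl (Bool.false_xor _)
  mul_smul _ _ _ := Prod.ext rfl (Bool.xor_assoc _ _ _)

/-- the sign -/
def u (b : Bool) : ℤ := bif b then -1 else 1

theorem u_xor (b c : Bool) : u (xor b c) = u b * u c := by cases b <;> cases c <;> rfl

/-- the skew matrix -/
def a (i j : ℕ) : ℤ := bif adj.testBit (100 * i + j) then u (sgn.testBit (100 * i + j)) else 0

/-- the matrix is multiplied by a sign -/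
def Pres (e : Bool) (x : M) : Prop := ∀ i j, a (x.g i) (x.g j) = u e * u (x.s i) * u (x.s j) * a i j

theorem Pres.mul {e f : Bool} {x y : M} (h : Pres e x) (h' : Pres f y) : Pres (xor e f) (x * y) := fun i j => by
  change a (x.g (y.g i)) (x.g (y.g j)) = _ * u (xor (x.s (y.g i)) (y.s i)) * u (xor (x.s (y.g j)) (y.s j)) * _
  rw [h, h', u_xor, u_xor, u_xor]
  ring

/-- **the double cover** -/
def X : Subgroup M where
  carrier := {x | x.g ∈ G ∧ Pres false x}
  one_mem' := ⟨one_mem G, fun _ _ => (one_mul _).symm⟩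
  mul_mem' h h' := ⟨mul_mem h.1 h'.1, (h.2.mul h'.2 :)⟩
  inv_mem' {x} h := ⟨inv_mem h.1, fun i j => by
    have h1 := h.2 (x.g⁻¹ i) (x.g⁻¹ j)
    rw [show x.g (x.g⁻¹ i) = i from x.g.apply_symm_apply i, show x.g (x.g⁻¹ j) = j from x.g.apply_symm_apply j] at h1
    change a (x.g⁻¹ i) (x.g⁻¹ j) = _ * u (x.s (x.g⁻¹ i)) * u (x.s (x.g⁻¹ j)) * _
    rw [h1]
    cases x.s (x.g⁻¹ i) <;> cases x.s (x.g⁻¹ j) <;> simp [u]⟩

/-- the projection -/
def φ : X →* G where
  toFun x := ⟨x.1.g, x.2.1⟩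
  map_one' := rfl
  map_mul' _ _ := rfl

/-- the central involution -/
def z : X := ⟨⟨1, fun _ => true⟩, one_mem G, fun _ _ => (one_mul _).symm⟩

/-- the lifts -/
def lm (k : ℕ) : M := ⟨gp k, fun i => Nat.ble 100 (lk (ut k) i)⟩

/-- a row of a matrix of bits -/
private noncomputable def rw1 (X p : ℕ) : ℕ := Nat.land (Nat.shiftRight X (Nat.mul 100 p)) 1267650600228229401496703205375

private theorem rw1_bit (X p : ℕ) {q : ℕ} (h : q < 100) : (rw1 X p >>> q).testBit 0 = X.testBit (100 * p + q) := by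
  show (((X >>> (100 * p)) &&& (2 ^ 100 - 1)) >>> q).testBit 0 = _
  rw [Nat.testBit_shiftRight, Nat.testBit_and, Nat.testBit_shiftRight, Nat.testBit_two_pow_sub_one, add_zero,
    decide_eq_true h, Bool.and_true]

private theorem cond_bit (b : Bool) : (cond b 1 0 : ℕ).testBit 0 = b := by cases b <;> rfl

/-- the check of one entry -/
private noncomputable def ent (A S A' S' e q j t : ℕ) : Bool :=
  Nat.beq (Nat.land 1 (Nat.lor (Nat.xor (Nat.shiftRight A q) (Nat.shiftRight A' j)) (Nat.land (Nat.shiftRight A' j)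
    (Nat.xor (Nat.xor (Nat.shiftRight S q) (Nat.shiftRight S' j)) (Nat.xor e t))))) 0

private theorem ent_ok {p q i j : ℕ} {e s t : Bool} (hq : q < 100) (hj : j < 100)
    (h : ent (rw1 adj p) (rw1 sgn p) (rw1 adj i) (rw1 sgn i) (Nat.xor (cond e 1 0) (cond s 1 0)) q j (cond t 1 0) = true) :
    a p q = u e * u s * u t * a i j := by
  have h1 : ((rw1 adj p >>> q ^^^ rw1 adj i >>> j) ||| (rw1 adj i >>> j &&& ((rw1 sgn p >>> q ^^^ rw1 sgn i >>> j) ^^^
      ((cond e 1 0 ^^^ cond s 1 0) ^^^ cond t 1 0)))).testBit 0 = false := by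
    rw [Nat.testBit, Nat.shiftRight_zero]
    exact (congrArg (· != 0) (Nat.eq_of_beq_eq_true h)).trans rfl
  rw [Nat.testBit_or, Nat.testBit_xor, Nat.testBit_and, Nat.testBit_xor, Nat.testBit_xor, Nat.testBit_xor, Nat.testBit_xor,
    rw1_bit _ _ hq, rw1_bit _ _ hq, rw1_bit _ _ hj, rw1_bit _ _ hj, cond_bit, cond_bit, cond_bit] at h1
  delta a
  clear h
  revert h1
  generalize adj.testBit (100 * p + q) = b1, adj.testBit (100 * i + j) = b2, sgn.testBit (100 * p + q) = b3,
    sgn.testBit (100 * i + j) = b4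
  revert b1 b2 b3 b4 e s t
  decide +kernel

theorem pres_lm : ∀ k < 6, Pres (k == 5) (lm k) := by
  have h : allB (fun k => allB (fun i => forceB (rw1 adj (lk (H269.CubeJ2.gt k) i)) fun A =>
      forceB (rw1 sgn (lk (H269.CubeJ2.gt k) i)) fun S => forceB (rw1 adj i) fun A' => forceB (rw1 sgn i) fun S' =>
      forceB (Nat.xor (cond (k == 5) 1 0) (cond (Nat.ble 100 (lk (ut k) i)) 1 0)) fun e => allB (fun j =>
        ent A S A' S' e (lk (H269.CubeJ2.gt k) j) j (cond (Nat.ble 100 (lk (ut k) j)) 1 0)) 100) 100) 6 = true := by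
    decide +kernel
  intro k hk i j
  have h1 := (allB_iff _ _).1 ((allB_iff _ _).1 h k hk) i i.2
  rw [forceB_eq, forceB_eq, forceB_eq, forceB_eq, forceB_eq] at h1
  have h2 := (allB_iff _ _).1 h1 j j.2
  rw [← H269.CubeJ2.gp_val, ← H269.CubeJ2.gp_val] at h2
  exact ent_ok (gp k j).2 j.2 h2

theorem gp_min (k : ℕ) : gp (min k 4) = gen k := by
  match k with
  | 0 | 1 | 2 | 3 => rfl
  | n + 4 => rw [min_eq_right (Nat.le_add_left 4 n)]; rfl

/-- the generators -/
def lg (k : ℕ) : X := ⟨lm (min k 4), (gp_min k).symm.subst (motive := (· ∈ G)) (gen_mem k), by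
  have h := pres_lm (min k 4) (by omega)
  rwa [show (min k 4 == 5) = false from beq_eq_false_iff_ne.2 (by omega)] at h⟩

/-- words -/
noncomputable def lw (L : List ℕ) : X := (L.map lg).prod

theorem lw_append (L L' : List ℕ) : lw (L ++ L') = lw L * lw L' := by rw [lw, List.map_append, List.prod_append]; rfl

theorem φ_lw (L : List ℕ) : φ (lw L) = gw L := by
  induction L with
  | nil => rfl
  | cons k L ih =>
    rw [lw, List.map_cons, List.prod_cons, map_mul, ← lw, ih]
    exact Subtype.ext ((congrArg (· * pw L) (gp_min k)).trans (pw_cons k L).symm)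

theorem φ_surj : Function.Surjective φ := fun g => by
  obtain ⟨L, -, rfl⟩ := H1.J2Cover.gen_top g
  exact ⟨lw L, φ_lw L⟩

private noncomputable def _root_.Cfsg.Agent.LsF.f1fcf00_8 : {f // @Cfsg.Agent.MO.S.J2.u = f} := ⟨_, by first | (delta Cfsg.Agent.MO.S.J2.u; rewrite [Cfsg.Agent.LsF.ineg_pat, Cfsg.Agent.LsF.cond_eq]; exact rfl) | exact rfl⟩
private noncomputable def _root_.Cfsg.Agent.LsF.f1fcf00_9 : {f // @Cfsg.Agent.MO.S.J2.a = f} := ⟨_, by first | (delta Cfsg.Agent.MO.S.J2.a; rewrite [Cfsg.Agent.LsF.f1fcf00_8.2, Cfsg.Agent.LsF.nadd_pat, Cfsg.Agent.LsF.nmul_pat, Cfsg.Agent.LsF.cond_eq, Cfsg.Agent.LsF.testBit_eq]; exact rfl) | exact rfl⟩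
theorem of_ker {x : X} (h : φ x = 1) : x = 1 ∨ x = z := by
  have h1 : x.1.g = 1 := congrArg Subtype.val h
  have h2 : ∀ i j : Fin 100, a i j ≠ 0 → x.1.s i = x.1.s j := fun i j h3 => by
    have h4 := x.2.2 i j
    rw [h1] at h4
    have h5 : (1 : ℤ) = u false * u (x.1.s i) * u (x.1.s j) := mul_right_cancel₀ h3 ((one_mul _).trans h4)
    revert h5
    cases x.1.s i <;> cases x.1.s j <;> decide
  have h3 : ∀ i : Fin 100, i = 0 ∨ ∃ j : Fin 100, a j i ≠ 0 ∧ (j = 0 ∨ a (0 : Fin 100) j ≠ 0) := by (refine of_decide_eq_true ?_; (try (rewrite [Cfsg.Agent.LsF.f1fcf00_9.2, Cfsg.Agent.LsF.instIDecEq_eq, Cfsg.Agent.LsF.dAnd_eq, Cfsg.Agent.LsF.dOr_eq, Cfsg.Agent.LsF.dNot_eq, Cfsg.Agent.LsF.dFinEq_eq, Cfsg.Agent.LsF.dForallFin_eq, Cfsg.Agent.LsF.dExistsFin_eq, Cfsg.Agent.LsF.decide_eq])); decide +kernel)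
  have h4 : ∀ i, x.1.s i = x.1.s 0 := fun i => by
    rcases h3 i with rfl | ⟨j, h5, rfl | h6⟩
    exacts [rfl, (h2 _ _ h5).symm, ((h2 _ _ h6).trans (h2 _ _ h5)).symm]
  cases h5 : x.1.s 0
  · exact Or.inl (Subtype.ext (M.eq h1 fun i => (h4 i).trans h5))
  · exact Or.inr (Subtype.ext (M.eq h1 fun i => (h4 i).trans h5))

theorem z_ne : z ≠ 1 := fun h => absurd (congrArg (fun x : X => x.1.s 0) h) (by decide)

theorem φ_z : φ z = 1 := rfl

theorem z_comm (x : X) : x * z = z * x :=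
  Subtype.ext (M.eq ((mul_one _).trans (one_mul _).symm) fun _ => Bool.xor_comm _ _)

theorem z_sq : z * z = 1 := Subtype.ext (M.eq (mul_one _) fun _ => rfl)

theorem z_mem : z ∈ center X := mem_center_iff.2 z_comm

theorem of_eq {x y : X} (h : φ x = φ y) : x = y ∨ x = z * y :=
  (of_ker (x := x * y⁻¹) (by rw [map_mul, map_inv, h, mul_inv_cancel])).imp mul_inv_eq_one.1 mul_inv_eq_iff_eq_mul.1

/-! ### the action on numbers -/

/-- the number of a signed point -/
def enc (p : Fin 100 × Bool) : ℕ := bif p.2 then p.1 + 100 else p.1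

theorem enc_inj : Function.Injective enc := by
  rintro ⟨i, _ | _⟩ ⟨j, _ | _⟩ h <;> simp only [enc, cond_true, cond_false] at h
  · rw [Fin.ext h]
  · omega
  · omega
  · rw [Fin.ext (Nat.add_right_cancel h)]

/-- `f` is the action of `x` -/
def Rep (x : M) (f : ℕ → ℕ) : Prop := ∀ p, enc (x • p) = f (enc p)

theorem Rep.mul {x y : M} {f g : ℕ → ℕ} (h : Rep x f) (h' : Rep y g) : Rep (x * y) fun j => f (g j) :=
  fun p => by rw [mul_smul, h, h']

/-- iteration -/
def it (f : ℕ → ℕ) (n : ℕ) : ℕ → ℕ := Nat.rec (fun j => j) (fun _ ih j => ih (f j)) n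

theorem Rep.pow {x : M} {f : ℕ → ℕ} (h : Rep x f) (n : ℕ) : Rep (x ^ n) (it f n) := by
  induction n with
  | zero => exact fun p => by rw [pow_zero, one_smul]; rfl
  | succ n ih => rw [pow_succ]; exact ih.mul h

theorem rep_lm : ∀ k < 6, Rep (lm k) (lk (ut k)) := by
  have h : ∀ k < 6, ∀ (i : Fin 100) (e : Bool), enc (lm k • (i, e)) = lk (ut k) (enc (i, e)) := by decide +kernel
  exact fun k hk p => h k hk p.1 p.2

/-- the action of a word -/
def rn (L : List ℕ) : ℕ → ℕ := List.rec (fun j => j) (fun k _ ih j => lk (ut (min k 4)) (ih j)) L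

theorem rep_lw (L : List ℕ) : Rep (lw L) (rn L) := by
  induction L with
  | nil => exact fun p => congrArg enc (one_smul M p)
  | cons k L ih => exact (rep_lm (min k 4) (by omega)).mul ih

/-- the functions agree on the points -/
noncomputable def eqB (f g : ℕ → ℕ) : Bool := allB (fun i => Nat.beq (f i) (g i)) 100

theorem Rep.eq {x y : M} {f g : ℕ → ℕ} (h : Rep x f) (h' : Rep y g) (e : eqB f g = true) : x = y := by
  have h1 : ∀ i, x • (i, false) = y • (i, false) := fun i => enc_inj (by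
    rw [h, h']
    exact Nat.eq_of_beq_eq_true ((allB_iff _ _).1 e i i.2))
  exact M.eq (Perm.ext fun i => congrArg Prod.fst (h1 i)) fun i =>
    (Bool.xor_false _).symm.trans ((congrArg Prod.snd (h1 i)).trans (Bool.xor_false _))

theorem lw_eq {L L' : List ℕ} (h : eqB (rn L) (rn L') = true) : lw L = lw L' :=
  Subtype.ext ((rep_lw L).eq (rep_lw L') h)

theorem z_eq : lw [3, 3] = z :=
  (of_ker (by rw [φ_lw]; exact Subtype.ext (J2.HundredGens.pw_eq (M := []) (by decide +kernel)))).resolve_left fun h => by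
    have h1 := rep_lw [3, 3] (0, false)
    rw [h] at h1
    exact absurd ((congrArg enc (one_smul M _)).symm.trans h1) (by decide +kernel)

theorem lw_z (L : List ℕ) : lw (3 :: 3 :: L) = z * lw L := by rw [← z_eq, ← lw_append]; rfl

/-- a conjugating word -/
theorem conj_lw {x y : X} {f g : ℕ → ℕ} (h : Rep x f) (h' : Rep y g) (W : List ℕ)
    (e : eqB (fun j => rn W (f j)) (fun j => g (rn W j)) = true) : IsConj x y :=
  isConj_iff.2 ⟨lw W, mul_inv_eq_iff_eq_mul.2 (Subtype.ext (((rep_lw W).mul h).eq (h'.mul (rep_lw W)) e))⟩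

/-! ### the cover -/

theorem ker_eq : φ.ker = center X := by
  have := SporadicA.J2Hundred.simple
  refine le_antisymm (fun x hx => ?_) fun x hx => ?_
  · rcases of_ker hx with rfl | rfl
    exacts [one_mem _, z_mem]
  · have h1 : φ x ∈ center G := mem_center_iff.2 fun g => by
      obtain ⟨y, rfl⟩ := φ_surj g
      rw [← map_mul, mem_center_iff.1 hx, map_mul]
    exact Subtype.ext (H269.CubeJ2.cent_triv fun g hg => congrArg Subtype.val (mem_center_iff.1 h1 ⟨g, hg⟩))

theorem card_center : Nat.card (center X) = 2 :=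
  (Nat.card_eq_two_iff' (1 : center X)).2 ⟨⟨z, z_mem⟩, fun h => z_ne (congrArg Subtype.val h), fun y hy =>
    Subtype.ext ((of_ker (ker_eq.ge y.2)).resolve_left fun h => hy (Subtype.ext h))⟩

theorem card_X : Nat.card X = 1209600 := by
  rw [← φ.ker.card_mul_index, index_ker, MonoidHom.range_eq_top.2 φ_surj, card_top, ker_eq, card_center, card_G]

theorem cv : Cv 2 φ := by
  have := SporadicA.J2Hundred.simple
  have := Fact.mk Nat.prime_two
  refine ⟨φ_surj, ker_eq, card_center, isCyclic_of_prime_card card_center, ?_⟩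
  have h1 : z ∈ _root_.commutator X := by
    obtain ⟨c, hc⟩ := isConj_iff.1 (conj_lw (rep_lw [3]) (rep_lw [3, 3, 3])
      [2, 3, 1, 2, 3, 4, 3, 0, 1, 2, 3, 1, 2, 3, 4, 1, 2, 3, 0, 1, 2, 3, 0, 1, 2] (by decide +kernel))
    rw [lw_z, ← mul_inv_eq_iff_eq_mul] at hc
    exact hc ▸ commutator_mem_commutator (mem_top c) (mem_top _)
  have h2 : (_root_.commutator X).map φ = ⊤ := by
    rw [_root_.commutator_def, map_commutator, map_top_of_surjective _ φ_surj]
    exact H48.Crit.perfect_of_simple (by rw [card_G]; norm_num)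
  refine eq_top_iff.2 fun x _ => ?_
  obtain ⟨y, hy, h3⟩ := h2.ge (mem_top (φ x))
  rcases of_eq h3.symm with rfl | rfl
  exacts [hy, mul_mem h1 hy]

/-! ### the outer automorphism -/

theorem lm_sq : lm 5 * lm 5 = 1 :=
  ((rep_lm 5 (by decide)).mul (rep_lm 5 (by decide))).eq (rep_lw []) (by decide +kernel)

theorem conj_mem (x : X) : lm 5 * x * lm 5 ∈ X :=
  ⟨by
    have h := H269.CubeJ2.conj_mem_G pT_mem x.2.1
    rwa [show pT⁻¹ = pT from gp_inv 5] at h, (((pres_lm 5 (by decide)).mul x.2.2).mul (pres_lm 5 (by decide)) :)⟩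

theorem conj_conj (x : M) : lm 5 * (lm 5 * x * lm 5) * lm 5 = x := by
  rw [← mul_assoc, ← mul_assoc, lm_sq, one_mul, mul_assoc, lm_sq, mul_one]

/-- **the outer automorphism** -/
def α : MulAut X where
  toFun x := ⟨_, conj_mem x⟩
  invFun x := ⟨_, conj_mem x⟩
  left_inv x := Subtype.ext (conj_conj x)
  right_inv x := Subtype.ext (conj_conj x)
  map_mul' x y := Subtype.ext (by
    change lm 5 * (x * y) * lm 5 = lm 5 * x * lm 5 * (lm 5 * y * lm 5)
    have h : ∀ w, lm 5 * (lm 5 * w) = w := fun w => by rw [← mul_assoc, lm_sq, one_mul]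
    simp only [mul_assoc, h])

theorem φ_α (x : X) : φ (α x) = β (φ x) :=
  Subtype.ext (congrArg (pT * x.1.g * ·) (gp_inv 5).symm)

theorem rep_α {x : X} {f : ℕ → ℕ} (h : Rep x f) : Rep (α x) fun j => lk uT (f (lk uT j)) :=
  ((rep_lm 5 (by decide)).mul h).mul (rep_lm 5 (by decide))

theorem α_z : α z = z := (of_ker (by rw [φ_α, φ_z, map_one])).resolve_left fun h => z_ne (α.map_eq_one_iff.1 h)

/-! ### the trace -/

/-- the trace -/
def tr (x : X) : ℤ := ∑ i, if x.1.g i = i then u (x.1.s i) else 0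

theorem tr_z (x : X) : tr (z * x) = -tr x := by
  rw [tr, tr, ← Finset.sum_neg_distrib]
  refine Finset.sum_congr rfl fun i _ => ?_
  change (if x.1.g i = i then u (xor true (x.1.s i)) else 0) = _
  rw [u_xor]
  split_ifs <;> simp [u]

theorem tr_le (x : X) : |tr x| ≤ 100 := by
  refine (Finset.abs_sum_le_sum_abs _ _).trans ((Finset.sum_le_card_nsmul _ _ 1 fun i _ => ?_).trans (by simp))
  split_ifs
  · cases x.1.s i <;> rfl
  · decide

theorem gen_tr : IsGeneralizedCharacter X fun x => (tr x : ℂ) := by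
  refine ⟨_, _, S0157.isCharacter_fixedBy (G := X) (Fin 100 × Bool),
    Core.isCharacter_comp φ (S0157.isCharacter_fixedBy (G := G) (Fin 100)), funext fun x => ?_⟩
  have h1 : ∀ i e, (i, e) ∈ MulAction.fixedBy (Fin 100 × Bool) x ↔ x.1.g i = i ∧ x.1.s i = false := fun i e =>
    Prod.ext_iff.trans (and_congr Iff.rfl (by
      change xor (x.1.s i) e = e ↔ _
      cases x.1.s i <;> cases e <;> simp))
  have h2 : ∀ i, i ∈ MulAction.fixedBy (Fin 100) (φ x) ↔ x.1.g i = i := fun _ => Iff.rfl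
  simp only [Pi.sub_apply, Function.comp, Nat.card_eq_fintype_card, Fintype.card_subtype, Finset.card_filter,
    Fintype.sum_prod_type, h1, h2, tr]
  push_cast
  rw [← Finset.sum_sub_distrib]
  refine Finset.sum_congr rfl fun i _ => ?_
  by_cases h : x.1.g i = i <;> cases x.1.s i <;> simp [h, u] <;> norm_num

/-- the trace from the action -/
def trN (f : ℕ → ℕ) : ℤ :=
  ((List.range 100).map fun i => if f i = i then (1 : ℤ) else if f i = i + 100 then -1 else 0).sum

theorem Rep.tr {x : X} {f : ℕ → ℕ} (h : Rep x f) : tr x = trN f := by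
  rw [trN, TAB.ON.sum_list, Finset.sum_range]
  refine Finset.sum_congr rfl fun i _ => ?_
  have h1 : enc (x.1.g i, xor (x.1.s i) false) = f i := h (i, false)
  simp only [← h1, ← Fin.val_inj]
  have h2 := i.2
  have h3 := (x.1.g i).2
  cases x.1.s i <;> simp only [enc, u, Bool.xor_false, cond_true, cond_false] <;> split_ifs <;> omega

end Cfsg.Agent.MO.S.J2
end

-- part: MO/S/J2/Loc
section
/-!
# MO, the Hall–Janko group and its double cover : the local numbers (helper88)
-/

set_option autoImplicit false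
set_option maxRecDepth 100000

namespace Cfsg.Agent.MO.S.J2

open Cfsg Subgroup Cfsg.Agent.MO.T Cfsg.Agent.MO.L Cfsg.Agent.MO.S.Pc
open Cfsg.Agent.MK.S.Pc (ev ev_nil ev_cons V V_le)
open Cfsg.Agent.MK.T (stab_of_le stab_norm)
open Cfsg.Agent.SporadicA.J2Hundred (G card_G)
open Cfsg.Agent.SporadicA.PermTab (lk)

/-- letters (a polycyclic sequence of `Q`, two generators of `N` modulo `Q`), relations, stabilizers, matrices, the word of
the inner correction, points, permutations, images of the generators, the matrix of the automorphism, programs -/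
structure LD where
  W : List (List ℕ)
  c : Cert
  lv : List (ℕ × List (List ℕ))
  R : List (List (List ℕ))
  x : List ℕ
  O : List ℕ
  σ : List (List ℕ)
  ws : List (List ℕ)
  M : List (List ℕ)
  pG : List ℕ
  pX : List ℕ

/-- the point with a given number -/
def pt (c : ℕ) : Fin 100 × Bool := (⟨c % 100, Nat.mod_lt _ (by decide)⟩, Nat.ble 100 c)

theorem enc_pt : ∀ c < 200, enc (pt c) = c := by decide +kernel

namespace LD

variable (L : LD)

/-- the letters -/
noncomputable def y (a : ℕ) : X := lw (L.W.getD a [])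

/-- their action -/
def f (a : ℕ) : ℕ → ℕ := rn (L.W.getD a [])

/-- the test of equality -/
noncomputable def e : List ℕ → List ℕ → Bool := eqb L.f (List.range 100)

/-- the automorphism -/
noncomputable def γ : MulAut X := MulAut.conj (lw L.x) * α

/-- the automorphism maps the letter `a` to the word `w` -/
noncomputable def im (a : ℕ) (w : List ℕ) : Bool :=
  eqB (fun j => rn L.x (lk uT (L.f a (lk uT j)))) fun j => imw L.f w (rn L.x j)

/-- **the check** -/
noncomputable def ok (p n k a b a' b' : ℕ) : Bool :=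
  (Pc.chk L.e p n 2 L.c && expC n 2 L.c &&
    (chn (imw L.f) (Nat.blt · 200) n L.lv [] && Nat.ble (p ^ n) (L.lv.map fun v => v.2.length).prod) &&
    nrms L.e n L.R && Nat.beq L.R.length 2) &&
  (((List.range n).all fun j => Nat.ble (L.M.getD j []).length n && L.im j (pwd (L.M.getD j []))) &&
    ((List.range 2).all fun i => L.im (n + i) ((L.ws.getD i []).map (n + ·))) &&
    ((List.range L.O.length).all fun j => Nat.blt (L.O.getD j 0) 200 &&
      ((List.range L.O.length).all fun j' => !Nat.beq (L.O.getD j 0) (L.O.getD j' 0) || Nat.beq j j') &&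
      (List.range 2).all fun i => Nat.blt ((L.σ.getD i []).getD j 0) L.O.length &&
        Nat.beq (L.f (n + i) (L.O.getD j 0)) (L.O.getD ((L.σ.getD i []).getD j 0) 0))) &&
  (chkM p 2 L.R (idM 2) L.pG k a && chkM p 2 L.R L.M L.pG k b &&
    chkE p 2 L.O.length 2 L.R L.σ (idW 2) (idM 2) L.pX (2 * k) a' && chkE p 2 L.O.length 2 L.R L.σ L.ws L.M L.pX (2 * k) b')

theorem act (a : ℕ) (x : Fin 100 × Bool) : enc (L.y a • x) = L.f a (enc x) := rep_lw _ x

theorem he (v w : List ℕ) (h : L.e v w = true) : ev L.y v = ev L.y w :=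
  eqb_sound enc_inj L.act (fun _ h => Subtype.ext (M.eq (Equiv.ext fun i => congrArg Prod.fst (h (i, false)
    (List.mem_range.2 i.2))) fun i => (Bool.xor_false _).symm.trans (congrArg Prod.snd (h (i, false)
      (List.mem_range.2 i.2))))) v w h

theorem φ_ev (v : List ℕ) : ev (φ ∘ L.y) v = φ (ev L.y v) := by rw [ev, ev, map_list_prod, List.map_map]

theorem im_eq {a : ℕ} {w : List ℕ} (h : L.im a w = true) : L.γ (L.y a) = ev L.y w :=
  mul_inv_eq_iff_eq_mul.2 (Subtype.ext (((rep_lw _).mul (rep_α (rep_lw _))).eq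
    (Rep.mul (x := (ev L.y w : X)) (imw_spec L.act w) (rep_lw _)) h))

theorem φ_γ (x : X) : φ (L.γ x) = (MulAut.conj (φ (lw L.x)) * β) (φ x) := by
  simp only [γ, MulAut.mul_apply, MulAut.conj_apply, map_mul, map_inv, φ_α]

omit L in
theorem mt_map {d : ℕ} {Q : Subgroup X} {q : ℕ → X} {f : X → X} {f' : G → G} {A : List (List ℕ)} (h : Mt d Q q f A)
    (hf : ∀ x, φ (f x) = f' (φ x)) : Mt d (Q.map φ) (φ ∘ q) f' A := fun j hj => by
  rw [← map_commutator]
  refine ⟨_, h j hj, ?_⟩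
  simp only [map_mul, map_inv, hf, mon, map_list_prod, List.map_map, Function.comp_def, map_pow]

/-- **the local numbers** -/
theorem loc {p n k o a b a' b' : ℕ} [hp : Fact p.Prime] (h : L.ok p n k a b a' b' = true) (h1 : 604800 = p ^ n * o)
    (h2 : ¬ p ∣ 2 * o) (h3 : ∀ Q : Sylow p G, Nat.card (normalizer ((Q : Subgroup G) : Set G)) = p ^ n * k) :
    ∃ (Q : Sylow p X) (P : Sylow p G), (∀ x, L.γ x ∈ (Q : Subgroup X) ↔ x ∈ (Q : Subgroup X)) ∧
      (∀ x, (MulAut.conj (φ (lw L.x)) * β) x ∈ (P : Subgroup G) ↔ x ∈ (P : Subgroup G)) ∧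
      (normalizer ((Q : Subgroup X) : Set X)).map φ = normalizer ((P : Subgroup G) : Set G) ∧
      k0 p (normalizer ((P : Subgroup G) : Set G)) = a ∧
      fN p (normalizer ((P : Subgroup G) : Set G)) (MulAut.conj (φ (lw L.x)) * β) = b ∧
      k0 p (normalizer ((Q : Subgroup X) : Set X)) = a' ∧ fN p (normalizer ((Q : Subgroup X) : Set X)) L.γ = b' := by
  rw [ok, Bool.and_eq_true, Bool.and_eq_true, Bool.and_eq_true, Bool.and_eq_true, Bool.and_eq_true, Bool.and_eq_true] at h
  obtain ⟨⟨⟨⟨⟨⟨c1, c2⟩, c3⟩, c4⟩, c5⟩, h⟩, h'⟩ := h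
  simp only [Bool.and_eq_true, List.all_eq_true, List.mem_range, Nat.ble_eq, Nat.blt_eq, Nat.beq_eq, Bool.or_eq_true,
    Bool.not_eq_true', ← Bool.not_eq_true] at h h' c5
  obtain ⟨⟨c6, c7⟩, c8⟩ := h
  obtain ⟨⟨⟨d1, d2⟩, d3⟩, d4⟩ := h'
  have hc := card_ge enc_inj (fun c hc => ⟨_, enc_pt c (Nat.blt_eq.mp hc)⟩) (fun w _ => imw_spec L.act w) c3
  have e1 := pc_of_chk L.he c1
  obtain ⟨Q, hQ⟩ := e1.sylow hc (o := 2 * o) (by rw [card_X, mul_left_comm, ← h1]; rfl) h2
  have e2 : (V L.y n 0).map φ = V (φ ∘ L.y) n 0 := by rw [V, V, MonoidHom.map_closure, Set.image_image]; rfl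
  have e3 : ((Q.mapSurjective φ_surj : Sylow p G) : Subgroup G) = (V L.y n 0).map φ := hQ ▸ rfl
  have e4 := map_normalizer φ φ_surj Q
  have e5 : Nat.card ((V L.y n 0).map φ) = p ^ n := by
    have h0 : o ≠ 0 := fun e => h2 (by simp [e])
    rw [← e3, Sylow.card_eq_multiplicity, card_G, h1, Nat.factorization_mul (pow_ne_zero _ hp.out.ne_zero) h0,
      hp.out.factorization_pow, Finsupp.add_apply, Finsupp.single_eq_same,
      Nat.factorization_eq_zero_of_not_dvd fun e => h2 (e.mul_left 2), add_zero]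
  have e6 := h3 (Q.mapSurjective φ_surj)
  have e7 : ∀ x, L.γ x ∈ V L.y n 0 ↔ x ∈ V L.y n 0 := stab_of_le fun x hx =>
    V_le (H := (V L.y n 0).comap L.γ.toMonoidHom) (fun j _ hj =>
      show L.γ (L.y j) ∈ V L.y n 0 from L.im_eq (c6 j hj).2 ▸ pwd_mem (c6 j hj).1) hx
  have e8 : ∀ x, (MulAut.conj (φ (lw L.x)) * β) x ∈ (V L.y n 0).map φ ↔ x ∈ (V L.y n 0).map φ := stab_of_le (by
    rintro _ ⟨x, hx, rfl⟩
    exact ⟨_, (e7 x).2 hx, L.φ_γ x⟩)
  have e9 : Mt 2 (V L.y n 0) L.y L.γ L.M := fun j hj => by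
    rw [e1.comm_eq, L.im_eq (c6 j (hj.trans_le e1.le)).2]
    exact pwd_mod (c6 j (hj.trans_le e1.le)).1 2
  have f1 := loc_of_chk L.he c1 c2 hc
  have f2 : Loc p 2 ((V L.y n 0).map φ) (φ ∘ L.y) :=
    e2 ▸ loc_of_chk (fun v w e => by rw [φ_ev, φ_ev, L.he v w e]) c1 c2 (e2 ▸ e5.ge)
  have f3 : ∀ A ∈ L.R, ∃ g ∈ normalizer (((V L.y n 0).map φ : Subgroup G) : Set G),
      Mt 2 ((V L.y n 0).map φ) (φ ∘ L.y) (fun x => g * x * g⁻¹) A := fun A hA => by
    obtain ⟨g, f3, f4⟩ := mts_of_nrms L.he c1 c4 A hA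
    exact ⟨φ g, le_normalizer_map φ ⟨g, f3, rfl⟩, mt_map f4 fun x => by rw [map_mul, map_mul, map_inv]⟩
  have f4 : ∀ i < 2, nrm L.e n [n + i] (L.R.getD i []) = true := fun i hi =>
    List.all_eq_true.1 c4 i (List.mem_range.2 (c5 ▸ hi))
  have f5 : ∀ i, ev L.y [n + i] = L.y (n + i) := fun i => by rw [ev_cons, ev_nil, mul_one]
  have f6 : ∀ i < 2, L.y (n + i) ∈ normalizer (V L.y n 0 : Set X) := fun i hi => f5 i ▸ nrm_mem L.he (f4 i hi)
  have f7 : ∀ i < 2, Mt 2 (V L.y n 0) L.y (fun x => L.y (n + i) * x * (L.y (n + i))⁻¹) (L.R.getD i []) := fun i hi =>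
    f5 i ▸ mt_of_nrm L.he c1 (f4 i hi)
  have f8 : ∀ j < L.O.length, ∀ j' < L.O.length, pt (L.O.getD j 0) = pt (L.O.getD j' 0) → j = j' := fun j hj j' hj' e =>
    ((c8 j hj).1.2 j' hj').resolve_left fun e' => e' (by rw [← enc_pt _ (c8 j hj).1.1, e, enc_pt _ (c8 j' hj').1.1])
  have f9 : ∀ i < 2, ∀ j < L.O.length, L.y (n + i) • pt (L.O.getD j 0) = pt (L.O.getD ((L.σ.getD i []).getD j 0) 0) :=
    fun i hi j hj => enc_inj (by
      rw [act, enc_pt _ (c8 j hj).1.1, enc_pt _ (c8 _ ((c8 j hj).2 i hi).1).1.1, ((c8 j hj).2 i hi).2])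
  rw [hQ] at e4
  rw [e3] at e6
  have g1 : Nat.card (normalizer (V L.y n 0 : Set X)) ≤ Nat.card (V L.y n 0) * (2 * k) := by
    have g1 := ((normalizer (((V L.y n 0).map φ : Subgroup G) : Set G)).comap φ).card_mul_index
    have g2 := (normalizer (((V L.y n 0).map φ : Subgroup G) : Set G)).card_mul_index
    rw [index_comap_of_surjective _ φ_surj, card_X, show 1209600 = 2 * 604800 from rfl, ← card_G, ← g2, ← mul_assoc,
      e6] at g1
    rw [e1.card_zero hc, mul_left_comm, ← Nat.eq_of_mul_eq_mul_right (Nat.pos_of_ne_zero index_ne_zero_of_finite) g1, ← e4]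
    exact card_le_of_le (le_comap_map _ _)
  refine ⟨Q, Q.mapSurjective φ_surj, ?_⟩
  rw [e3, hQ]
  refine ⟨e7, e8, e4, k0_norm f2 (e5.symm ▸ e6.le) f3 d1, fN_norm f2 (e5.symm ▸ e6.le) f3 e8 (mt_map e9 L.φ_γ) d2,
    (k0_of_chkE f1 le_normalizer le_rfl g1 f6 f7 f8 f9 d3).1,
    fN_of_chkE f1 le_normalizer le_rfl g1 f6 f7 f8 f9 e7 (stab_norm e7) e9 (fun i hi => ?_) d4⟩
  rw [L.im_eq (c7 i hi), show ev L.y _ = ev (fun i => L.y (n + i)) _ from congrArg List.prod List.map_map, inv_mul_cancel]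
  exact one_mem _

end LD

/-- the data for `p = 3` -/
def L3 : LD where
  W := [[3, 2, 3, 1, 2, 0, 1],
    [3, 2, 3, 0, 1, 0],
    [2, 3, 1, 2, 3, 1, 0, 1, 2, 3, 0, 1, 2, 3, 2, 1, 0, 1, 0, 3, 3],
    [3, 3],
    [3, 0, 1, 2, 3, 1, 0, 1, 2, 3, 2]]
  c := ⟨[[], [], []], [[[], [2], []], [[], [], []], [[], [], []]], [([], [], []), ([], [], []), ([0], [1], [])]⟩
  lv := [(0, [[], [1, 1], [0, 0, 1, 1], [1], [0, 1], [0, 0, 1], [0], [0, 0], [0, 1, 1]]),
    (8, [[], [2, 2], [2]])]
  R := [[[1], [0, 1], [0, 0, 1]], [[2, 2], [2, 0, 1], [0, 0, 2]]]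
  x := [3, 4, 3, 2, 3, 1, 2, 3, 2, 1, 0, 1, 2, 1]
  O := [5, 105]
  σ := [[1, 0], [1, 0]]
  ws := [[0], [1, 1, 1]]
  M := [[1, 2, 1], [0, 2], [0, 0, 2]]
  pG := [2, 2, 2, 2, 2, 2, 2]
  pX := [1, 2, 2, 2, 2, 2, 2, 2, 0, 0, 0, 0, 0, 0, 0, 0, 2, 2, 2, 2, 2, 2, 2]

/-- the data for `p = 5` -/
def L5 : LD where
  W := [[3, 4, 1, 2, 3, 2, 3, 1, 2, 0, 1],
    [4, 3, 1, 2, 3, 1, 2, 3],
    [4, 3, 1, 2, 3, 4, 0, 1],
    [2, 3, 4, 0, 1, 2, 3, 2, 0, 1, 0, 1, 2, 3]]
  c := ⟨[[], []], [[[], []], [[], []]], [([], [], []), ([], [], [])]⟩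
  lv := [(0, [[], [0, 1, 1, 1], [0, 0, 0, 0, 1, 1, 1, 1], [0, 1, 1, 1, 1], [0, 0, 0, 0, 1, 1], [1, 1, 1, 1], [0, 0],
    [0, 0, 0], [0, 0, 0, 1], [0, 0, 1, 1, 1, 1], [0, 0, 0, 1, 1, 1, 1], [0, 1, 1], [1, 1], [0, 1], [0], [0, 0, 0, 0],
    [1], [0, 0, 1, 1], [1, 1, 1], [0, 0, 1], [0, 0, 0, 1, 1], [0, 0, 0, 0, 1, 1, 1], [0, 0, 0, 1, 1, 1], [0, 0, 0, 0,
    1], [0, 0, 1, 1, 1]])]
  R := [[[0, 4], [4]], [[0, 4], [1, 1]]]
  x := [4, 2, 3, 2, 3, 1, 2, 0, 1]
  O := [17, 74, 117, 174]
  σ := [[0, 1, 2, 3], [1, 2, 3, 0]]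
  ws := [[1, 1, 1, 1, 0], [0, 1, 0]]
  M := [[3], [2, 2]]
  pG := [1, 2, 1, 0, 2, 1, 0, 2, 0, 0, 0, 0, 2, 1, 0, 2, 1, 0, 2]
  pX := [1, 2, 1, 2, 2, 2, 2, 0, 0, 0, 0, 0, 2, 1, 2, 0, 0, 2, 2, 0, 0, 0, 0, 0, 2, 1, 2, 2, 2, 2, 0, 0, 0, 0, 0, 2,
    1, 2, 0, 0, 2, 2]

theorem ok3 : L3.ok 3 3 8 9 3 18 6 = true := by decide +kernel

theorem ok5 : L5.ok 5 2 12 14 6 28 12 = true := by decide +kernel

end Cfsg.Agent.MO.S.J2
end

private theorem dce_09587a36796b : _root_.True := by
  try have : _root_.True := by simp only [_root_.Cfsg.Agent.MO.S.J2.trN.eq_1]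
  try have : _root_.True := by simp only [_root_.Cfsg.Agent.MO.S.J2.lw.eq_1]
  try have : _root_.True := by simp only [_root_.Cfsg.Agent.MO.S.J2.enc.eq_1]
  try have : _root_.True := by simp only [_root_.Cfsg.Agent.MO.S.J2.tr.eq_1]
  try have : _root_.True := by simp only [_root_.Cfsg.Agent.MO.S.J2.u.eq_1]
  try have : _root_.True := by simp only [_root_.Cfsg.Agent.MO.S.J2.β.eq_1]
  try have : _root_.True := by simp only [_root_.Cfsg.Agent.MO.S.J2.LD.γ.eq_1]
  try have : _root_.True := by simp only [_root_.Cfsg.Agent.MO.S.J2.LD.ok.eq_1]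
  exact _root_.True.intro
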